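import Groth.Agent.Blanchard.Sections
import Groth.Agent.GrpAct.OrbitFlat
import Groth.Agent.GrpAct.OrbitSmooth
import Groth.Agent.GrpAct.Stabilizer
import Groth.Agent.GrpField.Irreducible
import Groth.Agent.SteinGen.GeomConn

/-! # Blanchard: actions descend along proper maps with trivial direct image -/

set_option autoImplicit false
set_option backward.isDefEq.respectTransparency false

universe u

open CategoryTheory CategoryTheory.Limits MonoidalCategory CartesianMonoidalCategory MonObj AlgebraicGeometry TopologicalSpace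

namespace Groth.Agent.Blanchard

variable {k : Type u} [Field k] {G X Y : Over (Spec (CommRingCat.of k))}

omit [Field k] in
theorem isPullback_whiskerLeft {S : Scheme.{u}} {X Y : Over S} (T : Over S) (f : X ⟶ Y) :
    IsPullback (snd T X) (T ◁ f) f (snd T Y) := by
  refine ⟨⟨(whiskerLeft_snd T f).symm⟩, ⟨PullbackCone.IsLimit.mk _
    (fun s => lift (s.snd ≫ fst T Y) s.fst) (fun s => lift_snd _ _) (fun s => ?_)
    (fun s m h₁ h₂ => ?_)⟩⟩
  · apply CartesianMonoidalCategory.hom_ext
    · simp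
    · simp [s.condition]
  · apply CartesianMonoidalCategory.hom_ext
    · simp [← h₂]
    · simp [h₁]

/-- the base change of `f` by any scheme over `k` still has trivial direct image -/
theorem props_whiskerLeft (T : Over (Spec (CommRingCat.of k))) (f : X ⟶ Y) [IsProper f.left] [Surjective f.left]
    (hf : ∀ U, IsIso (f.left.app U)) :
    IsProper (T ◁ f).left ∧ Surjective (T ◁ f).left ∧ (∀ U, IsIso ((T ◁ f).left.app U)) ∧ Epi (T ◁ f) := by
  have sq := (isPullback_whiskerLeft T f).map (Over.forget _)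
  have : Flat (snd T Y).left := MorphismProperty.pullback_snd (P := @Flat) T.hom Y.hom inferInstance
  have hs : Surjective (T ◁ f).left := MorphismProperty.of_isPullback (P := @Surjective) sq ‹_›
  have : Flat ((Over.forget _).map (snd T Y)) := this
  have hi : ∀ U, IsIso ((T ◁ f).left.app U) := isIso_app_of_flat_baseChange f.left hf _ _ _ sq
  have : Epi ((Over.forget _).map (T ◁ f)) := @epi_of_isIso_app _ _ _ hs hi
  exact ⟨MorphismProperty.of_isPullback (P := @IsProper) sq ‹_›, hs, hi, (Over.forget _).epi_of_epi_map this⟩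

/-- a nonempty closed set of a scheme of finite type over an algebraically closed field has a rational point -/
theorem exists_pt_mem [IsAlgClosed k] {Z : Over (Spec (CommRingCat.of k))} [LocallyOfFiniteType Z.hom]
    {s : Set Z.left} (hs : IsLocallyClosed s) (hne : s.Nonempty) :
    ∃ p : 𝟙_ (Over (Spec (CommRingCat.of k))) ⟶ Z, ∀ t, p.left t ∈ s := by
  have : JacobsonSpace Z.left := LocallyOfFiniteType.jacobsonSpace Z.hom
  obtain ⟨z, hz, hzc⟩ := nonempty_inter_closedPoints hne hs
  obtain ⟨p, hp⟩ := GrpAct.exists_pt_of_closed hzc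
  exact ⟨p, fun t => (hp t).symm ▸ hz⟩

theorem pt_ext [IsAlgClosed k] {Z : Over (Spec (CommRingCat.of k))} [LocallyOfFiniteType Z.hom]
    {p q : 𝟙_ (Over (Spec (CommRingCat.of k))) ⟶ Z}
    (h : p.left (IsLocalRing.closedPoint k) = q.left (IsLocalRing.closedPoint k)) : p = q :=
  Over.OverMorphism.ext (ext_of_apply_closedPoint_eq Z.hom (Over.w p) (Over.w q) h)

theorem pt_apply {Z : Over (Spec (CommRingCat.of k))} (p : 𝟙_ (Over (Spec (CommRingCat.of k))) ⟶ Z)
    (t : (𝟙_ (Over (Spec (CommRingCat.of k)))).left) : p.left t = p.left (IsLocalRing.closedPoint k) :=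
  congrArg p.left (Subsingleton.elim (α := PrimeSpectrum k) t _)

theorem isClosed_pt [IsAlgClosed k] {Z : Over (Spec (CommRingCat.of k))} [LocallyOfFiniteType Z.hom]
    (p : 𝟙_ (Over (Spec (CommRingCat.of k))) ⟶ Z) :
    IsClosed ({p.left (IsLocalRing.closedPoint k)} : Set Z.left) :=
  ((pointEquivClosedPoint Z.hom) ⟨p.left, Over.w p⟩).2

theorem isOpen_of_isLocallyClosed_of_dense {α : Type*} [TopologicalSpace α] {s : Set α}
    (hs : IsLocallyClosed s) (hd : Dense s) : IsOpen s := by
  obtain ⟨U, Z, hU, hZ, rfl⟩ := hs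
  have : Z = Set.univ := Set.univ_subset_iff.mp
    (hd.closure_eq ▸ closure_minimal Set.inter_subset_right hZ)
  rw [this, Set.inter_univ]
  exact hU

theorem existsUnique_action [IsAlgClosed k] [GrpObj G] [LocallyOfFiniteType G.hom] [QuasiCompact G.hom]
    [ConnectedSpace G.left] [LocallyOfFiniteType X.hom] [LocallyOfFiniteType Y.hom]
    (f : X ⟶ Y) [IsProper f.left] (hf : ∀ U : Y.left.Opens, IsIso (f.left.app U))
    (a : AlgGrp.Action G X) : ∃! b : AlgGrp.Action G Y, (G ◁ f) ≫ b.act = a.act ≫ f := by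
  have : GeometricallyConnected f.left := SteinGen.geometricallyConnected_of_isIso_app f.left hf
  have : Surjective f.left := inferInstance
  obtain ⟨hp', hs', hi', hepi⟩ := props_whiskerLeft G f hf
  let F' := (G ◁ f).left
  let h := (a.act ≫ f).left
  have : LocallyOfFiniteType (G ⊗ Y).hom :=
    inferInstanceAs (LocallyOfFiniteType (pullback.fst G.hom Y.hom ≫ G.hom))
  have : LocallyOfFiniteType (G ⊗ X).hom :=
    inferInstanceAs (LocallyOfFiniteType (pullback.fst G.hom X.hom ≫ G.hom))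
  have : JacobsonSpace (G ⊗ Y).left := LocallyOfFiniteType.jacobsonSpace (G ⊗ Y).hom
  let Ω : (G ⊗ Y).left.Opens :=
    ⟨⋃ V : Y.left.affineOpens, ((F' '' (h ⁻¹' (V.1 : Set Y.left))ᶜ))ᶜ, isOpen_iUnion fun V =>
      (F'.isClosedMap _ (V.1.2.preimage h.continuous).isClosed_compl).isOpen_compl⟩
  have hΩmem : ∀ q, (∀ x x', F' x = q → F' x' = q → h x = h x') → q ∈ Ω := by
    intro q hq
    obtain ⟨x₀, rfl⟩ := hs'.surj q
    obtain ⟨V, hV, hxV, -⟩ := exists_isAffineOpen_mem_and_subset (X := Y.left) (x := h x₀) (U := ⊤) trivial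
    refine Set.mem_iUnion.mpr ⟨⟨V, hV⟩, ?_⟩
    rintro ⟨x, hx, hxq⟩
    exact hx (show h x ∈ V from hq x₀ x rfl hxq ▸ hxV)
  suffices hall : ∀ q, q ∈ Ω by
    obtain ⟨φ, hφ⟩ := @exists_desc _ _ _ F' hs' hi' h (fun q => by
      obtain ⟨V, hqV⟩ := Set.mem_iUnion.mp (hall q)
      refine ⟨⟨_, (F'.isClosedMap _ (V.1.2.preimage h.continuous).isClosed_compl).isOpen_compl⟩, V.1, hqV,
        V.2, fun x hx => ?_⟩
      by_contra hc
      exact hx ⟨x, hc, rfl⟩)
    have hφw : φ ≫ Y.hom = (G ⊗ Y).hom := by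
      have : Epi F' := @epi_of_isIso_app _ _ _ hs' hi'
      rw [← cancel_epi F', reassoc_of% hφ, Over.w (a.act ≫ f), Over.w (G ◁ f)]
    let act : G ⊗ Y ⟶ Y := Over.homMk φ hφw
    have hact : (G ◁ f) ≫ act = a.act ≫ f := Over.OverMorphism.ext hφ
    let b : AlgGrp.Action G Y :=
      { act := act
        one_act := by
          have := (props_whiskerLeft (𝟙_ _) f hf).2.2.2
          rw [← cancel_epi ((𝟙_ _) ◁ f), whisker_exchange_assoc, hact, reassoc_of% a.one_act,
            leftUnitor_naturality]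
        mul_act := by
          have := (props_whiskerLeft (G ⊗ G) f hf).2.2.2
          rw [← cancel_epi ((G ⊗ G) ◁ f), whisker_exchange_assoc, hact, reassoc_of% a.mul_act,
            associator_naturality_right_assoc, ← MonoidalCategory.whiskerLeft_comp_assoc, hact,
            MonoidalCategory.whiskerLeft_comp_assoc, hact] }
    refine ⟨b, hact, fun b' hb' => ?_⟩
    have e : b'.act = b.act := by rw [← cancel_epi (G ◁ f), hb', hact]
    cases b'
    cases e
    rfl
  -- every rational point of `G ⊗ Y` has its fibre collapsed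
  by_contra hne
  rw [not_forall] at hne
  obtain ⟨q, hq⟩ := exists_pt_mem (Z := G ⊗ Y) (s := (Ω : Set _)ᶜ) Ω.2.isClosed_compl.isLocallyClosed
    (by obtain ⟨z, hz⟩ := hne; exact ⟨z, hz⟩)
  apply hq (IsLocalRing.closedPoint k)
  let g₀ := q ≫ fst G Y
  let y := q ≫ snd G Y
  have hqe : q = lift g₀ y := (lift_comp_fst_snd q).symm
  have : JacobsonSpace X.left := LocallyOfFiniteType.jacobsonSpace X.hom
  have hyc : IsClosed ({y.left (IsLocalRing.closedPoint k)} : Set Y.left) :=
    isClosed_pt y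
  -- the reduced fibre
  let K : Set X.left := f.left ⁻¹' {y.left (IsLocalRing.closedPoint k)}
  have hK : IsClosed K := hyc.preimage f.left.continuous
  obtain ⟨F₀, j₀, hj₀, hred, hjr⟩ := GrpAct.exists_reduced_subscheme hK.isLocallyClosed
  let F : Over (Spec (CommRingCat.of k)) := Over.mk (j₀ ≫ X.hom)
  let j : F ⟶ X := Over.homMk j₀
  have : LocallyOfFiniteType F.hom := inferInstanceAs (LocallyOfFiniteType (j₀ ≫ X.hom))
  have : JacobsonSpace F.left := LocallyOfFiniteType.jacobsonSpace F.hom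
  have hjy : j ≫ f = toUnit F ≫ y := by
    have : IsImmersion (y.left ≫ Y.hom) := by
      rw [Over.w y]; exact inferInstanceAs (IsImmersion (𝟙 (Spec (CommRingCat.of k))))
    have hy : IsImmersion y.left := IsImmersion.of_comp y.left Y.hom
    have : IsReduced F.left := hred
    obtain ⟨m, hm⟩ := GrpAct.exists_factor y.left (j ≫ f).left (by
      rintro _ ⟨z, rfl⟩
      refine ⟨IsLocalRing.closedPoint k, ?_⟩
      have : j₀ z ∈ K := hjr ▸ Set.mem_range_self z
      exact this.symm)
    let m' : F ⟶ 𝟙_ (Over (Spec (CommRingCat.of k))) := Over.homMk m (by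
      rw [← Over.w (j ≫ f), ← hm, Category.assoc, Over.w y])
    have e : j ≫ f = m' ≫ y := Over.OverMorphism.ext hm.symm
    rwa [toUnit_unique m' (toUnit F)] at e
  have : PreconnectedSpace F.left := by
    refine ⟨j₀.isEmbedding.isInducing.isPreconnected_image.mp ?_⟩
    rw [Set.image_univ, hjr]
    exact (f.left.isConnected_preimage_singleton _).isPreconnected
  let u : G ⊗ F ⟶ Y := (G ◁ j) ≫ a.act ≫ f
  let s : (𝟙_ (Over (Spec (CommRingCat.of k))) ⟶ F) → (G ⊗ F ⟶ Y) := fun x =>
    fst G F ≫ lift (𝟙 G) (toUnit G ≫ x) ≫ u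
  -- `G` is irreducible and `Ω` contains the unit
  have : IrreducibleSpace G.left := GrpField.irreducibleSpace_of_nhds (GrpField.exists_irreducible_nhd G)
  let c : G ⟶ G ⊗ Y := lift (𝟙 G) (toUnit G ≫ y)
  let O : G.left.Opens := c.left ⁻¹ᵁ Ω
  have hO : (O : Set G.left).Nonempty := by
    refine ⟨η[G].left (IsLocalRing.closedPoint k), ?_⟩
    show c.left (η[G].left _) ∈ Ω
    rw [← Scheme.Hom.comp_apply, ← Over.comp_left, comp_lift, Category.comp_id, comp_toUnit_assoc]
    apply hΩmem
    -- over the unit both maps are `f`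
    let w := (lift η[G] (toUnit _ ≫ y)).left (IsLocalRing.closedPoint k)
    intro x x' hx hx'
    have key : ∀ x, F' x = w → h x = y.left (IsLocalRing.closedPoint k) := by
      intro x hx
      by_contra hne
      obtain ⟨p, hp⟩ := exists_pt_mem (Z := G ⊗ X) (s := F' ⁻¹' {w} ∩ (h ⁻¹' {y.left (IsLocalRing.closedPoint k)})ᶜ)
        (((isClosed_pt _).preimage F'.continuous).isLocallyClosed.inter
          (hyc.preimage h.continuous).isOpen_compl.isLocallyClosed) ⟨x, hx, hne⟩
      obtain ⟨hp1, hp2⟩ := hp (IsLocalRing.closedPoint k)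
      have e : p ≫ (G ◁ f) = lift η[G] (toUnit _ ≫ y) := pt_ext (by
        rw [Over.comp_left, Scheme.Hom.comp_apply]; exact hp1)
      have e1 : p ≫ fst G X = η[G] := by simpa using congr($e ≫ fst G Y)
      have e2 : (p ≫ snd G X) ≫ f = y := by
        have := congr($e ≫ snd G Y)
        rwa [Category.assoc, whiskerLeft_snd, lift_snd, toUnit_unique (toUnit _) (𝟙 _), Category.id_comp,
          ← Category.assoc] at this
      apply hp2
      show h (p.left _) = _
      rw [← Scheme.Hom.comp_apply, ← Over.comp_left, ← lift_comp_fst_snd p, e1,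
        show η[G] = toUnit (𝟙_ (Over (Spec (CommRingCat.of k)))) ≫ η[G] by
          rw [toUnit_unique (toUnit _) (𝟙 _), Category.id_comp],
        ← Category.assoc, GrpAct.one_smul, e2]
    rw [key x hx, key x' hx']
  have hOd : Dense (O : Set G.left) := O.2.dense hO
  -- the agreement loci are open
  have : UniversallyOpen (fst G F).left := by
    have : Flat (fst G F).left := MorphismProperty.pullback_fst (P := @Flat) G.hom F.hom inferInstance
    have : LocallyOfFinitePresentation F.hom := by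
      rw [LocallyOfFinitePresentation.iff_locallyOfFiniteType]; infer_instance
    have : LocallyOfFinitePresentation (fst G F).left :=
      MorphismProperty.pullback_fst (P := @LocallyOfFinitePresentation) G.hom F.hom ‹_›
    infer_instance
  have hdense : Dense ((fst G F).left ⁻¹' (O : Set G.left)) := hOd.preimage (fst G F).left.isOpenMap
  let Ω' : (G ⊗ F).left.Opens := (fst G F).left ⁻¹ᵁ O
  have hΩ : ∀ x, Ω'.ι ≫ (u).left = Ω'.ι ≫ (s x).left := by
    intro x
    have hle : ∀ z : Ω'.toScheme, (((G ◁ j) ≫ (G ◁ f)).left) (Ω'.ι z) ∈ Ω := by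
      intro z
      have : (G ◁ j) ≫ (G ◁ f) = fst G F ≫ c := by
        apply CartesianMonoidalCategory.hom_ext
        · simp [c]
        · simp [c, hjy]
      rw [this]
      exact z.2
    let t := (Ω'.ι ≫ ((G ◁ j)).left)
    let r : Ω'.toScheme ⟶ (F' ⁻¹ᵁ Ω).toScheme := IsOpenImmersion.lift (F' ⁻¹ᵁ Ω).ι t (by
      rintro _ ⟨z, rfl⟩
      rw [Scheme.Opens.range_ι]
      show F' (t z) ∈ Ω
      have := hle z
      rw [Over.comp_left, Scheme.Hom.comp_apply] at this
      rw [Scheme.Hom.comp_apply]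
      exact this)
    have : Surjective (F' ∣_ Ω) := IsZariskiLocalAtTarget.restrict hs' _
    obtain ⟨φ, hφ⟩ := exists_desc (F' ∣_ Ω) (isIso_app_restrict F' hi' _) ((F' ⁻¹ᵁ Ω).ι ≫ h) (fun w => by
      obtain ⟨V, hwV⟩ := Set.mem_iUnion.mp w.2
      let U : (G ⊗ Y).left.Opens :=
        ⟨_, (F'.isClosedMap _ (V.1.2.preimage h.continuous).isClosed_compl).isOpen_compl⟩
      refine ⟨Ω.ι ⁻¹ᵁ U, V.1, hwV, V.2, fun z hz => ?_⟩
      show h ((F' ⁻¹ᵁ Ω).ι z) ∈ V.1
      by_contra hc
      exact hz ⟨(F' ⁻¹ᵁ Ω).ι z, hc, congr($((morphismRestrict_ι F' Ω).symm) z)⟩)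
    have hu : Ω'.ι ≫ u.left = (r ≫ (F' ∣_ Ω)) ≫ φ := by
      rw [Category.assoc, hφ, IsOpenImmersion.lift_fac_assoc]
      simp only [t, Category.assoc, u, h, Over.comp_left]
    let σ : G ⊗ F ⟶ G ⊗ F := lift (fst G F) (toUnit _ ≫ x)
    have hσ : s x = σ ≫ u := by
      simp only [s, σ, ← Category.assoc, comp_lift, Category.comp_id, comp_toUnit]
    have hσm : ∀ z : Ω'.toScheme, (σ.left) (Ω'.ι z) ∈ Ω' := fun z => by
      show (fst G F).left (σ.left _) ∈ O
      rw [← Scheme.Hom.comp_apply, ← Over.comp_left, lift_fst]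
      exact z.2
    let σ' : Ω'.toScheme ⟶ Ω'.toScheme := IsOpenImmersion.lift Ω'.ι (Ω'.ι ≫ σ.left) (by
      rintro _ ⟨z, rfl⟩
      rw [Scheme.Opens.range_ι, Scheme.Hom.comp_apply]
      exact hσm z)
    have e : σ' ≫ r ≫ (F' ∣_ Ω) = r ≫ (F' ∣_ Ω) := by
      rw [← cancel_mono Ω.ι]
      simp only [Category.assoc, morphismRestrict_ι, σ', r, t, IsOpenImmersion.lift_fac_assoc]
      have : σ ≫ (G ◁ j) ≫ (G ◁ f) = (G ◁ j) ≫ (G ◁ f) := by
        apply CartesianMonoidalCategory.hom_ext
        · simp [σ]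
        · simp [σ, hjy]
      exact congrArg (fun m : G ⊗ F ⟶ G ⊗ Y => Ω'.ι ≫ m.left) this
    rw [hσ, show (σ ≫ u).left = σ.left ≫ u.left from rfl, ← Category.assoc Ω'.ι,
      show Ω'.ι ≫ σ.left = σ' ≫ Ω'.ι from (IsOpenImmersion.lift_fac _ _ _).symm, Category.assoc, hu,
      ← Category.assoc σ', e]
  let E : (𝟙_ (Over (Spec (CommRingCat.of k))) ⟶ F) → Set (G ⊗ F).left := fun x =>
    Set.range (equalizer.ι u (s x)).left
  have hEopen : ∀ x, IsOpen (E x) := by
    intro x
    have : IsImmersion (equalizer.ι u (s x)).left := by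
      have sq : IsPullback (equalizer.ι u (s x)) (equalizer.ι u (s x) ≫ u) (lift u (s x)) (lift (𝟙 Y) (𝟙 Y)) := by
        refine ⟨⟨?_⟩, ⟨PullbackCone.IsLimit.mk _ (fun c => equalizer.lift c.fst ?_) (fun c => equalizer.lift_ι _ _)
          (fun c => ?_) (fun c m h₁ _ => ?_)⟩⟩
        · rw [comp_lift, comp_lift, Category.comp_id, ← equalizer.condition]
        · have h1 := congr($(c.condition) ≫ fst Y Y)
          have h2 := congr($(c.condition) ≫ snd Y Y)
          simp only [Category.assoc, lift_fst, lift_snd, Category.comp_id] at h1 h2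
          exact h1.trans h2.symm
        · have h1 := congr($(c.condition) ≫ fst Y Y)
          simp only [Category.assoc, lift_fst, Category.comp_id] at h1
          rw [equalizer.lift_ι_assoc, h1]
        · exact equalizer.hom_ext (by rw [h₁, equalizer.lift_ι])
      have : IsImmersion ((lift (𝟙 Y) (𝟙 Y)).left ≫ (fst Y Y).left) := by
        rw [← Over.comp_left, lift_fst]; exact inferInstanceAs (IsImmersion (𝟙 Y.left))
      have hδ : IsImmersion (lift (𝟙 Y) (𝟙 Y)).left := IsImmersion.of_comp _ (fst Y Y).left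
      exact MorphismProperty.of_isPullback (P := @IsImmersion) (sq.map (Over.forget _)).flip hδ
    refine isOpen_of_isLocallyClosed_of_dense (equalizer.ι u (s x)).left.isLocallyClosed_range
      (hdense.mono fun z hz => ?_)
    let W : Over (Spec (CommRingCat.of k)) := Over.mk (Ω'.ι ≫ (G ⊗ F).hom)
    let m : W ⟶ G ⊗ F := Over.homMk Ω'.ι
    let l := equalizer.lift m (Over.OverMorphism.ext (hΩ x) : m ≫ u = m ≫ s x)
    refine ⟨l.left ⟨z, hz⟩, ?_⟩
    show (l.left ≫ (equalizer.ι u (s x)).left) ⟨z, hz⟩ = z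
    rw [← Over.comp_left, equalizer.lift_ι]
    rfl
  let val : (𝟙_ (Over (Spec (CommRingCat.of k))) ⟶ F) → (𝟙_ (Over (Spec (CommRingCat.of k))) ⟶ Y) :=
    fun x => lift g₀ x ≫ u
  let ι₀ : F ⟶ G ⊗ F := lift (toUnit F ≫ g₀) (𝟙 F)
  have hmem : ∀ x x' : 𝟙_ (Over (Spec (CommRingCat.of k))) ⟶ F,
      ι₀.left (x'.left (IsLocalRing.closedPoint k)) ∈ E x ↔ val x' = val x := by
    intro x x'
    have hp : x' ≫ ι₀ = lift g₀ x' := by
      rw [comp_lift, Category.comp_id, comp_toUnit_assoc, toUnit_unique (toUnit _) (𝟙 _), Category.id_comp]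
    have hs1 : lift g₀ x' ≫ s x = val x := by
      simp only [s, val, lift_fst_assoc, ← Category.assoc, comp_lift, Category.comp_id, comp_toUnit]
      rw [lift_fst, toUnit_unique (toUnit _) (𝟙 _), Category.id_comp]
    rw [← Scheme.Hom.comp_apply, ← Over.comp_left, hp]
    constructor
    · rintro ⟨z, hz⟩
      apply pt_ext
      rw [← hs1]
      simp only [val, Over.comp_left, Scheme.Hom.comp_apply, ← hz]
      rw [← Scheme.Hom.comp_apply, ← Over.comp_left, equalizer.condition, Over.comp_left, Scheme.Hom.comp_apply]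
    · intro hv
      let l := equalizer.lift (lift g₀ x') (hv.trans hs1.symm)
      refine ⟨l.left (IsLocalRing.closedPoint k), ?_⟩
      rw [← Scheme.Hom.comp_apply, ← Over.comp_left, equalizer.lift_ι]
  let P : (𝟙_ (Over (Spec (CommRingCat.of k))) ⟶ F) → Set F.left := fun x => ι₀.left ⁻¹' E x
  have hconst : ∀ x x', val x = val x' := by
    intro x₀ x₁
    by_contra hne
    let P₁ : Set F.left := ⋃ x ∈ {x | val x ≠ val x₀}, P x
    have hcov : (Set.univ : Set F.left) ⊆ P x₀ ∪ P₁ := by
      by_contra hc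
      obtain ⟨p, hp⟩ := exists_pt_mem (Z := F) (s := (P x₀ ∪ P₁)ᶜ)
        (((hEopen x₀).preimage ι₀.left.continuous).union (isOpen_biUnion fun x _ =>
          (hEopen x).preimage ι₀.left.continuous)).isClosed_compl.isLocallyClosed
        (Set.not_subset.mp hc |>.elim fun z hz => ⟨z, hz.2⟩)
      have hp' := hp (IsLocalRing.closedPoint k)
      by_cases hv : val p = val x₀
      · exact hp' (Or.inl ((hmem x₀ p).mpr hv))
      · exact hp' (Or.inr (Set.mem_biUnion hv ((hmem p p).mpr rfl)))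
    obtain ⟨z, -, hz₀, hz₁⟩ := isPreconnected_univ (α := F.left) _ _
      ((hEopen x₀).preimage ι₀.left.continuous)
      (isOpen_biUnion fun x _ => (hEopen x).preimage ι₀.left.continuous) hcov
      ⟨x₀.left (IsLocalRing.closedPoint k), trivial, (hmem x₀ x₀).mpr rfl⟩
      ⟨x₁.left (IsLocalRing.closedPoint k), trivial,
        Set.mem_biUnion (Ne.symm hne) ((hmem x₁ x₁).mpr rfl)⟩
    obtain ⟨x, hx, hzx⟩ := Set.mem_iUnion₂.mp hz₁
    obtain ⟨p, hp⟩ := exists_pt_mem (Z := F) (s := P x₀ ∩ P x)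
      (((hEopen x₀).preimage ι₀.left.continuous).inter ((hEopen x).preimage ι₀.left.continuous)).isLocallyClosed
      ⟨z, hz₀, hzx⟩
    obtain ⟨h0, h1⟩ := hp (IsLocalRing.closedPoint k)
    exact hx (((hmem x p).mp h1).symm.trans ((hmem x₀ p).mp h0))
  apply hΩmem
  intro x x' hx hx'
  obtain ⟨xy, hxy⟩ := f.left.surjective (y.left (IsLocalRing.closedPoint k))
  obtain ⟨x₀, -⟩ := exists_pt_mem (Z := F) (s := Set.univ) isClosed_univ.isLocallyClosed (by
    obtain ⟨z, -⟩ : xy ∈ Set.range j₀ := hjr ▸ hxy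
    exact ⟨z, trivial⟩)
  suffices key : ∀ x, F' x = q.left (IsLocalRing.closedPoint k) → h x = (val x₀).left (IsLocalRing.closedPoint k) by
    rw [key x hx, key x' hx']
  intro x hx
  by_contra hne
  obtain ⟨p, hp⟩ := exists_pt_mem (Z := G ⊗ X)
    (s := F' ⁻¹' {q.left (IsLocalRing.closedPoint k)} ∩ (h ⁻¹' {(val x₀).left (IsLocalRing.closedPoint k)})ᶜ)
    (((isClosed_pt q).preimage F'.continuous).isLocallyClosed.inter
      ((isClosed_pt (val x₀)).preimage h.continuous).isOpen_compl.isLocallyClosed)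
    ⟨x, hx, hne⟩
  obtain ⟨hp1, hp2⟩ := hp (IsLocalRing.closedPoint k)
  have e : p ≫ (G ◁ f) = q := pt_ext (by rw [Over.comp_left, Scheme.Hom.comp_apply]; exact hp1)
  have hpK : (p ≫ snd G X).left (IsLocalRing.closedPoint k) ∈ K := by
    show f.left _ = y.left _
    rw [← Scheme.Hom.comp_apply, ← Over.comp_left, Category.assoc, ← whiskerLeft_snd, ← Category.assoc, e]
  obtain ⟨z, hz⟩ : _ ∈ Set.range j₀ := hjr ▸ hpK
  have hzc : IsClosed ({z} : Set F.left) := by
    rw [show ({z} : Set F.left) = j₀ ⁻¹' {(p ≫ snd G X).left (IsLocalRing.closedPoint k)} from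
      Set.ext fun w => ⟨fun hw => hw ▸ hz, fun hw => j₀.isEmbedding.injective (hw.trans hz.symm)⟩]
    exact (isClosed_pt (p ≫ snd G X)).preimage j₀.continuous
  obtain ⟨xp, hxp⟩ := GrpAct.exists_pt_of_closed hzc
  have hxj : xp ≫ j = p ≫ snd G X := pt_ext (by
    rw [Over.comp_left, Scheme.Hom.comp_apply, hxp]; exact hz)
  apply hp2
  show h (p.left _) = _
  rw [← Scheme.Hom.comp_apply, ← Over.comp_left, ← hconst xp x₀]
  suffices e' : p ≫ a.act ≫ f = val xp by rw [e']
  simp only [val, u]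
  rw [lift_whiskerLeft_assoc, hxj]
  congr 1
  apply CartesianMonoidalCategory.hom_ext
  · simp [g₀, ← e]
  · simp

end Groth.Agent.Blanchard
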