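import Groth.Agent.Blanchard.Main

/-! # Blanchard's lemma over an arbitrary field -/

set_option autoImplicit false
set_option backward.isDefEq.respectTransparency false

universe u

open CategoryTheory CategoryTheory.Limits MonoidalCategory CartesianMonoidalCategory MonObj AlgebraicGeometry TopologicalSpace
open scoped CategoryTheory.Obj

namespace Groth.Agent.Blanchard

/-- the square of a base change of a morphism over `S` -/
theorem isPullback_pullback_map {S S' : Scheme.{u}} (g : S' ⟶ S) {A B : Over S} (m : A ⟶ B) :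
    IsPullback (pullback.fst A.hom g) ((Over.pullback g).map m).left m.left (pullback.fst B.hom g) := by
  refine IsPullback.of_bot ?_ ?_ (IsPullback.of_hasPullback B.hom g)
  · have e : ((Over.pullback g).map m).left ≫ pullback.snd B.hom g = pullback.snd A.hom g :=
      Over.w ((Over.pullback g).map m)
    rw [e, Over.w m]
    exact IsPullback.of_hasPullback A.hom g
  · simp [Over.pullback]

/-- base change of an action -/
noncomputable def pullbackAction {S S' : Scheme.{u}} (g : S' ⟶ S) {G X : Over S} [GrpObj G] (a : AlgGrp.Action G X) :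
    AlgGrp.Action ((Over.pullback g).obj G) ((Over.pullback g).obj X) where
  act := Functor.LaxMonoidal.μ (Over.pullback g) G X ≫ (Over.pullback g).map a.act
  one_act := by
    rw [Functor.obj.η_def, comp_whiskerRight_assoc, Functor.LaxMonoidal.μ_natural_left_assoc, ← Functor.map_comp, a.one_act,
      Functor.LaxMonoidal.left_unitality]
  mul_act := by
    rw [Functor.obj.μ_def, comp_whiskerRight_assoc, Functor.LaxMonoidal.μ_natural_left_assoc, ← Functor.map_comp, a.mul_act,
      MonoidalCategory.whiskerLeft_comp_assoc, Functor.LaxMonoidal.μ_natural_right_assoc]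
    simp [Functor.LaxMonoidal.associativity_assoc]

variable {k : Type u} [Field k] {G X Y : Over (Spec (CommRingCat.of k))}

/-- the composite `G ⊗ X ⟶ X ⟶ Y` collapses the fibres of `G ◁ f` -/
theorem collapsed [GrpObj G] [LocallyOfFiniteType G.hom] [QuasiCompact G.hom]
    [ConnectedSpace G.left] [LocallyOfFiniteType X.hom] [LocallyOfFiniteType Y.hom]
    (f : X ⟶ Y) [IsProper f.left] (hf : ∀ U : Y.left.Opens, IsIso (f.left.app U))
    (a : AlgGrp.Action G X) (x x' : (G ⊗ X).left) (he : (G ◁ f).left x = (G ◁ f).left x') :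
    (a.act ≫ f).left x = (a.act ≫ f).left x' := by
  let K := AlgebraicClosure k
  let g := Spec.map (CommRingCat.ofHom (algebraMap k K))
  let F := Over.pullback g
  have : Flat g := by
    rw [HasRingHomProperty.Spec_iff (P := @Flat)]
    exact RingHom.flat_algebraMap_iff.mpr inferInstance
  have : Surjective g := GrpField.PointBase.surj K g
  have : ConnectedSpace (F.obj G).left := GrpField.connectedSpace_pullback G.hom
    (η[G] : 𝟙_ (Over (Spec (CommRingCat.of k))) ⟶ G).left (Over.w η[G])
  have : LocallyOfFiniteType (F.obj G).hom := inferInstanceAs (LocallyOfFiniteType (pullback.snd G.hom g))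
  have : QuasiCompact (F.obj G).hom := inferInstanceAs (QuasiCompact (pullback.snd G.hom g))
  have : LocallyOfFiniteType (F.obj X).hom := inferInstanceAs (LocallyOfFiniteType (pullback.snd X.hom g))
  have : LocallyOfFiniteType (F.obj Y).hom := inferInstanceAs (LocallyOfFiniteType (pullback.snd Y.hom g))
  have sqf := isPullback_pullback_map g f
  have : IsProper (F.map f).left := MorphismProperty.of_isPullback (P := @IsProper) sqf ‹_›
  have hflat : Flat (pullback.fst Y.hom g) := MorphismProperty.pullback_fst (P := @Flat) _ _ ‹_›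
  obtain ⟨b, hb, -⟩ := existsUnique_action (F.map f) (isIso_app_of_flat_baseChange f.left hf _ _ _ sqf)
    (pullbackAction g a)
  let φ : F.obj (G ⊗ Y) ⟶ F.obj Y := (Functor.Monoidal.μIso F G Y).inv ≫ b.act
  have hφ : F.map (G ◁ f) ≫ φ = F.map (a.act ≫ f) := by
    rw [← cancel_epi (Functor.LaxMonoidal.μ F G X)]
    simp only [φ, ← Functor.LaxMonoidal.μ_natural_right_assoc, Functor.Monoidal.μIso_inv,
      Functor.Monoidal.μ_δ_assoc, Functor.map_comp]
    refine hb.trans ?_
    simp [pullbackAction, F]
  have sq := isPullback_pullback_map g (G ◁ f)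
  have : Surjective (pullback.fst (G ⊗ Y).hom g) := inferInstance
  obtain ⟨z, hz⟩ := (pullback.fst (G ⊗ Y).hom g).surjective ((G ◁ f).left x)
  have key : ∀ t, (G ◁ f).left t = (G ◁ f).left x →
      (a.act ≫ f).left t = pullback.fst Y.hom g (φ.left z) := by
    intro t ht
    obtain ⟨t', ht1, ht2⟩ := Scheme.exists_preimage_of_isPullback sq t z (ht.trans hz.symm)
    rw [← ht1, ← ht2, ← Scheme.Hom.comp_apply, (isPullback_pullback_map g (a.act ≫ f)).w, ← hφ]
    rfl
  rw [key x rfl, key x' he.symm]

theorem existsUnique_action' [GrpObj G] [LocallyOfFiniteType G.hom] [QuasiCompact G.hom]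
    [ConnectedSpace G.left] [LocallyOfFiniteType X.hom] [LocallyOfFiniteType Y.hom]
    (f : X ⟶ Y) [IsProper f.left] (hf : ∀ U : Y.left.Opens, IsIso (f.left.app U))
    (a : AlgGrp.Action G X) : ∃! b : AlgGrp.Action G Y, (G ◁ f) ≫ b.act = a.act ≫ f := by
  have : GeometricallyConnected f.left := SteinGen.geometricallyConnected_of_isIso_app f.left hf
  have : Surjective f.left := inferInstance
  obtain ⟨hp', hs', hi', hepi⟩ := props_whiskerLeft G f hf
  obtain ⟨φ, hφ⟩ := @exists_desc _ _ _ (G ◁ f).left hs' hi' (a.act ≫ f).left (fun q => by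
    obtain ⟨x₀, rfl⟩ := hs'.surj q
    obtain ⟨V, hV, hxV, -⟩ :=
      exists_isAffineOpen_mem_and_subset (X := Y.left) (x := (a.act ≫ f).left x₀) (U := ⊤) trivial
    refine ⟨⟨_, ((G ◁ f).left.isClosedMap _
      (V.2.preimage (a.act ≫ f).left.continuous).isClosed_compl).isOpen_compl⟩, V, ?_, hV, fun x hx => ?_⟩
    · rintro ⟨x, hx, hxq⟩
      exact hx (show (a.act ≫ f).left x ∈ V from collapsed f hf a x₀ x hxq.symm ▸ hxV)
    · by_contra hc
      exact hx ⟨x, hc, rfl⟩)
  have hφw : φ ≫ Y.hom = (G ⊗ Y).hom := by
    have : Epi (G ◁ f).left := @epi_of_isIso_app _ _ _ hs' hi'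
    rw [← cancel_epi (G ◁ f).left, reassoc_of% hφ, Over.w (a.act ≫ f), Over.w (G ◁ f)]
  let act : G ⊗ Y ⟶ Y := Over.homMk φ hφw
  have hact : (G ◁ f) ≫ act = a.act ≫ f := Over.OverMorphism.ext hφ
  let b : AlgGrp.Action G Y :=
    { act := act
      one_act := by
        have := (props_whiskerLeft (𝟙_ _) f hf).2.2.2
        rw [← cancel_epi ((𝟙_ _) ◁ f), whisker_exchange_assoc, hact, reassoc_of% a.one_act,
          leftUnitor_naturality]
      mul_act := by
        have := (props_whiskerLeft (G ⊗ G) f hf).2.2.2
        rw [← cancel_epi ((G ⊗ G) ◁ f), whisker_exchange_assoc, hact, reassoc_of% a.mul_act,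
          associator_naturality_right_assoc, ← MonoidalCategory.whiskerLeft_comp_assoc, hact,
          MonoidalCategory.whiskerLeft_comp_assoc, hact] }
  refine ⟨b, hact, fun b' hb' => ?_⟩
  have e : b'.act = b.act := by rw [← cancel_epi (G ◁ f), hb', hact]
  cases b'
  cases e
  rfl

end Groth.Agent.Blanchard
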