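import Groth.Agent.SteinGen.Basic
import Mathlib.AlgebraicGeometry.Morphisms.Flat

/-! # Morphisms inducing isomorphisms on all sections: epimorphy, descent, flat base change -/

set_option autoImplicit false
set_option backward.isDefEq.respectTransparency false

universe u

open CategoryTheory CategoryTheory.Limits AlgebraicGeometry TopologicalSpace

namespace Groth.Agent.Blanchard

variable {X Z Y : Scheme.{u}} (f : X ⟶ Z)

theorem isIso_app_restrict (hf : ∀ U, IsIso (f.app U)) (W : Z.Opens) (O : W.toScheme.Opens) :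
    IsIso ((f ∣_ W).app O) := by
  rw [morphismRestrict_app]
  have := hf (W.ι ''ᵁ O)
  infer_instance

theorem eq_of_isAffine [IsAffine Y] (hf : IsIso f.appTop) {a b : Z ⟶ Y} (h : f ≫ a = f ≫ b) : a = b := by
  refine ext_of_isAffine ?_
  rw [← cancel_mono f.appTop, ← Scheme.Hom.comp_appTop, ← Scheme.Hom.comp_appTop, h]

theorem exists_desc_affine [IsAffine Y] (hf : IsIso f.appTop) (l : X ⟶ Y) : ∃ a : Z ⟶ Y, f ≫ a = l := by
  refine ⟨Z.toSpecΓ ≫ Spec.map (l.appTop ≫ inv f.appTop) ≫ inv Y.toSpecΓ, ?_⟩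
  rw [← Category.assoc, ← Category.assoc, IsIso.comp_inv_eq, Scheme.toSpecΓ_naturality, Spec.map_comp,
    Category.assoc, ← Category.assoc (Spec.map f.appTop), ← Spec.map_comp, IsIso.inv_hom_id, Spec.map_id,
    Category.id_comp, Scheme.toSpecΓ_naturality]

/-- a surjection which is an isomorphism on sections is an epimorphism of schemes -/
theorem epi_of_isIso_app [Surjective f] (hf : ∀ U, IsIso (f.app U)) : Epi f := by
  refine ⟨fun {Y} a b h => ?_⟩
  have hb : ∀ z, a z = b z := fun z => by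
    obtain ⟨x, rfl⟩ := f.surjective z
    rw [← Scheme.Hom.comp_apply, h, Scheme.Hom.comp_apply]
  choose V hV hzV using fun z : Z => exists_isAffineOpen_mem_and_subset (X := Y) (x := a z) (U := ⊤) trivial
  let W : Z → Z.Opens := fun z => a ⁻¹ᵁ V z ⊓ b ⁻¹ᵁ V z
  refine Scheme.Cover.hom_ext (Z.openCoverOfIsOpenCover W (eq_top_iff.2 fun z _ =>
    Opens.mem_iSup.2 ⟨z, (hzV z).1, show b z ∈ V z by rw [← hb]; exact (hzV z).1⟩)) _ _ fun z => ?_
  have : IsAffine (V z).toScheme := hV z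
  show (W z).ι ≫ a = (W z).ι ≫ b
  rw [← Scheme.Hom.resLE_comp_ι a (inf_le_left : W z ≤ a ⁻¹ᵁ V z),
    ← Scheme.Hom.resLE_comp_ι b (inf_le_right : W z ≤ b ⁻¹ᵁ V z)]
  congr 1
  refine eq_of_isAffine (f ∣_ W z) (isIso_app_restrict f hf _ _) ?_
  rw [← cancel_mono (V z).ι]
  simp only [Category.assoc, Scheme.Hom.resLE_comp_ι]
  exact (morphismRestrict_ι_assoc f (W z) a).trans
    ((congrArg ((f ⁻¹ᵁ W z).ι ≫ ·) h).trans (morphismRestrict_ι_assoc f (W z) b).symm)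

/-- morphisms mapping fibrewise into affines descend -/
theorem exists_desc [Surjective f] (hf : ∀ U, IsIso (f.app U)) (h : X ⟶ Y)
    (hloc : ∀ z : Z, ∃ (U : Z.Opens) (V : Y.Opens), z ∈ U ∧ IsAffineOpen V ∧ f ⁻¹ᵁ U ≤ h ⁻¹ᵁ V) :
    ∃ φ : Z ⟶ Y, f ≫ φ = h := by
  choose U V hzU hV hle using hloc
  choose a ha using fun z => @exists_desc_affine _ _ _ (f ∣_ U z) (hV z)
    (isIso_app_restrict f hf _ _) (h.resLE (V z) (f ⁻¹ᵁ U z) (hle z))
  let 𝒰 := Z.openCoverOfIsOpenCover U (eq_top_iff.2 fun z _ => Opens.mem_iSup.2 ⟨z, hzU z⟩)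
  have ha' : ∀ z, (f ∣_ U z) ≫ a z ≫ (V z).ι = (f ⁻¹ᵁ U z).ι ≫ h := fun z => by
    rw [reassoc_of% (ha z), Scheme.Hom.resLE_comp_ι]
  have hc : ∀ i j, Z.homOfLE (inf_le_left : U i ⊓ U j ≤ U i) ≫ a i ≫ (V i).ι =
      Z.homOfLE (inf_le_right : U i ⊓ U j ≤ U j) ≫ a j ≫ (V j).ι := by
    intro i j
    have : Surjective (f ∣_ (U i ⊓ U j)) := IsZariskiLocalAtTarget.restrict ‹_› _
    have := epi_of_isIso_app (f ∣_ (U i ⊓ U j)) (isIso_app_restrict f hf _)
    have e : ∀ k (hk : U i ⊓ U j ≤ U k),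
        (f ∣_ (U i ⊓ U j)) ≫ Z.homOfLE hk = X.homOfLE (f.preimage_mono hk) ≫ (f ∣_ U k) := fun k hk => by
      rw [← cancel_mono (U k).ι]
      simp [morphismRestrict_ι]
    rw [← cancel_epi (f ∣_ (U i ⊓ U j)), reassoc_of% (e i inf_le_left), reassoc_of% (e j inf_le_right),
      ha', ha', Scheme.homOfLE_ι_assoc, Scheme.homOfLE_ι_assoc]
  let φ := 𝒰.glueMorphisms (fun z => a z ≫ (V z).ι) fun i j => by
    refine (cancel_epi (isPullback_opens_inf (U i) (U j)).isoPullback.hom).mp ?_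
    exact ((Category.assoc _ _ _).symm.trans (congrArg (· ≫ _) (IsPullback.isoPullback_hom_fst _))).trans
      ((hc i j).trans ((Category.assoc _ _ _).symm.trans (congrArg (· ≫ _) (IsPullback.isoPullback_hom_snd _))).symm)
  refine ⟨φ, Scheme.Cover.hom_ext (X.openCoverOfIsOpenCover (fun z => f ⁻¹ᵁ U z)
    (eq_top_iff.2 fun x _ => Opens.mem_iSup.2 ⟨f x, hzU (f x)⟩)) _ _ fun z => ?_⟩
  show (f ⁻¹ᵁ U z).ι ≫ f ≫ φ = (f ⁻¹ᵁ U z).ι ≫ h
  rw [← morphismRestrict_ι_assoc, ← ha' z]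
  exact congrArg ((f ∣_ U z) ≫ ·) (𝒰.ι_glueMorphisms _ _ z)

/-- sections commute with flat base change -/
theorem isIso_app_of_flat_baseChange {X' Z' : Scheme.{u}} (f : X ⟶ Z) [QuasiCompact f] [QuasiSeparated f]
    (hf : ∀ U, IsIso (f.app U)) (f' : X' ⟶ Z') (iY : X' ⟶ X) (p : Z' ⟶ Z) [Flat p]
    (sq : IsPullback iY f' f p) (U : Z'.Opens) : IsIso (f'.app U) := by
  have : QuasiCompact f' := MorphismProperty.of_isPullback sq ‹_›
  have : QuasiSeparated f' := MorphismProperty.of_isPullback sq ‹_›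
  choose V hV hzV using fun z : Z' =>
    exists_isAffineOpen_mem_and_subset (X := Z) (x := p z) (U := ⊤) trivial
  choose W hW hzW hWV using fun z : Z' =>
    exists_isAffineOpen_mem_and_subset (X := Z') (x := z) (U := p ⁻¹ᵁ V z) (hzV z).1
  refine SteinGen.isIso_app_of_affine_cover f' W hW (fun z => ⟨z, hzW z⟩) (fun z => ?_) U
  have hUY : f' ⁻¹ᵁ W z = iY ⁻¹ᵁ (f ⁻¹ᵁ V z) ⊓ f' ⁻¹ᵁ W z := by
    refine (inf_eq_right.mpr fun x hx => ?_).symm
    show f (iY x) ∈ V z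
    rw [← Scheme.Hom.comp_apply, sq.w, Scheme.Hom.comp_apply]
    exact hWV z hx
  have h1 := (isIso_pushoutSection_iff sq (US := V z) (UT := W z) (UX := f ⁻¹ᵁ V z) (UY := f' ⁻¹ᵁ W z)
    (hWV z) le_rfl hUY).1
    (isIso_pushoutSection_of_isQuasiSeparated_of_flat_right sq (hWV z) le_rfl hUY (hV z) (hW z)
      (f.isCompact_preimage (hV z).isCompact) (f.isQuasiSeparated_preimage (hV z).isQuasiSeparated))
  have hiso : IsIso (f.appLE (V z) (f ⁻¹ᵁ V z) le_rfl) := by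
    rw [← Scheme.Hom.app_eq_appLE]; exact hf _
  have := h1.isIso_inr_of_isIso hiso
  rw [← Scheme.Hom.app_eq_appLE] at this
  exact (ConcreteCategory.isIso_iff_bijective _).mp this

end Groth.Agent.Blanchard
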